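import Groth.Agent.UnivSep5.LocalReg
import Groth.Agent.S9407
import Groth.Agent.AssFiber.Basic
import Groth.Agent.QCoh.LocFree
import Groth.Agent.S1392
import Groth.Agent.KFlatLib.Scheme.Pullback
import Groth.Prelude.Def_FlatFun
import Mathlib.AlgebraicGeometry.Geometrically.Irreducible
import Mathlib.AlgebraicGeometry.Morphisms.Smooth

/-!
Freeness near the generic points of the fibres of a smooth morphism with geometrically irreducible
fibres is freeness of the stalks at these points.
-/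

set_option autoImplicit false
set_option linter.style.haveILetI false
set_option backward.isDefEq.respectTransparency false
set_option maxHeartbeats 1000000

universe u

open CategoryTheory CategoryTheory.Limits AlgebraicGeometry TopologicalSpace Opposite TensorProduct

namespace Groth.Agent.FlatHpHx

section Alg

attribute [local instance] Algebra.TensorProduct.rightAlgebra

variable {A B : Type u} [CommRing A] [CommRing B] [Algebra A B]

/-- An element outside the generic point of an irreducible reduced fibre is regular on that fibre. -/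
theorem regular_on_fibre [Algebra.Smooth A B] (P : Ideal A) [P.IsPrime] (q₀ : Ideal B) [q₀.IsPrime] [q₀.LiesOver P]
    (hmin : ∀ (q : Ideal B) [q.IsPrime], q.under A = P → q₀ ≤ q) (h : B) (hh : h ∉ q₀) (z : B)
    (hz : (1 : P.ResidueField) ⊗ₜ[A] (h * z) = 0) : (1 : P.ResidueField) ⊗ₜ[A] z = 0 := by
  haveI : Algebra.Smooth P.ResidueField (P.Fiber B) := inferInstance
  haveI : IsReduced (P.Fiber B) := Groth.Agent.S9407.result P.ResidueField (P.Fiber B)
  let ι : B →+* P.Fiber B :=
    (Algebra.TensorProduct.includeRight (R := A) (A := P.ResidueField) (B := B)).toRingHom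
  have hι : ι.comp (algebraMap A B) = (algebraMap P.ResidueField (P.Fiber B)).comp (algebraMap A P.ResidueField) := by
    ext a
    show (Algebra.TensorProduct.includeRight (R := A) (A := P.ResidueField) (B := B)) (algebraMap A B a) = _
    rw [AlgHom.commutes]
    rfl
  let φ : P.Fiber B →ₐ[A] q₀.ResidueField :=
    Algebra.TensorProduct.lift (Ideal.ResidueField.mapₐ P q₀ (Algebra.ofId A B) (q₀.over_def P))
      (IsScalarTower.toAlgHom A B q₀.ResidueField) fun _ _ => Commute.all _ _
  have hφ : ∀ b, φ (ι b) = algebraMap B q₀.ResidueField b := fun b => by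
    show φ ((1 : P.ResidueField) ⊗ₜ[A] b) = _
    rw [Algebra.TensorProduct.lift_tmul, map_one, one_mul]
    rfl
  have hle : ∀ (Q : Ideal (P.Fiber B)) [Q.IsPrime], RingHom.ker φ.toRingHom ≤ Q := by
    intro Q _ b hb
    have hQP : (Q.comap ι).comap (algebraMap A B) = P := by
      rw [Ideal.comap_comap, hι, ← Ideal.comap_comap,
        Ideal.eq_bot_of_prime (Q.comap (algebraMap P.ResidueField _)), ← RingHom.ker_eq_comap_bot,
        Ideal.ker_algebraMap_residueField]
    obtain ⟨r, hr, s, hs⟩ := AssFiber.exists_smul_eq_includeRight P b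
    have hs0 : s ∈ q₀ := by
      rw [← Ideal.algebraMap_residueField_eq_zero, ← hφ]
      show φ ((1 : P.ResidueField) ⊗ₜ[A] s) = 0
      rw [← hs, map_mul, show φ b = 0 from RingHom.mem_ker.1 hb, mul_zero]
    have hsQ : ι s ∈ Q := hmin (Q.comap ι) hQP hs0
    rw [show ι s = (1 : P.ResidueField) ⊗ₜ[A] algebraMap A B r * b from hs.symm] at hsQ
    refine ((Ideal.IsPrime.mem_or_mem ‹Q.IsPrime› hsQ).resolve_left fun h1 => hr ?_)
    rw [← hQP]
    exact h1
  have hu : φ (ι h) ≠ 0 := by
    rw [hφ, Ne, Ideal.algebraMap_residueField_eq_zero]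
    exact hh
  have hz0 : φ (ι z) = 0 := by
    refine (mul_eq_zero.1 ?_).resolve_left hu
    rw [← map_mul, ← map_mul]
    show φ ((1 : P.ResidueField) ⊗ₜ[A] (h * z)) = 0
    rw [hz, map_zero]
  show ι z = 0
  refine IsNilpotent.eq_zero ?_
  rw [← mem_nilradical, nilradical_eq_sInf, Submodule.mem_sInf]
  intro (Q : Ideal (P.Fiber B)) hQ
  haveI : Q.IsPrime := hQ
  exact hle Q (RingHom.mem_ker.2 hz0)

/-- A surjection from a free module onto a module free of the same rank at the generic points of the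
fibres is bijective. -/
theorem bijective_of_generic [Algebra.Smooth A B] {p : ℕ} {N : Type u} [AddCommGroup N] [Module B N]
    (φ : (Fin p → B) →ₗ[B] N) (hφ : Function.Surjective φ)
    (hgen : ∀ (q : Ideal B) [q.IsPrime], ∃ q₀ : Ideal B, ∃ _ : q₀.IsPrime, q₀.under A = q.under A ∧
      (∀ (q' : Ideal B) [q'.IsPrime], q'.under A = q.under A → q₀ ≤ q') ∧
      ∀ x, φ x = 0 → ∃ h ∉ q₀, h • x = 0) : Function.Bijective φ := by
  refine ⟨?_, hφ⟩
  rw [injective_iff_map_eq_zero]
  intro x hx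
  funext j
  by_contra hj
  obtain ⟨q, hq, hle⟩ := Ideal.exists_le_maximal ((Submodule.span B {x j}).annihilator) (by
    rw [Ne, Ideal.eq_top_iff_one, Submodule.mem_annihilator_span_singleton, one_smul]
    exact hj)
  haveI := hq.isPrime
  obtain ⟨q₀, _, h0, hmin, hker⟩ := hgen q
  haveI : q₀.LiesOver (q.under A) := ⟨h0.symm⟩
  obtain ⟨h, hh, hhx⟩ := hker x hx
  obtain ⟨s, hs, hsx⟩ := UnivSep5.exists_smul_eq_zero_of_regular_fibre A B B q (q.under A) rfl h
    (fun z hz => regular_on_fibre (q.under A) q₀ hmin h hh z (by simpa using hz)) (x j)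
    (congr_fun hhx j)
  exact hs (hle ((Submodule.mem_annihilator_span_singleton _ _).2 hsx))

end Alg

variable {X T : Scheme.{u}} (q : X ⟶ T)

/-- Generic points of fibres exist. -/
theorem exists_isGenericPtOfFibre [GeometricallyIrreducible q] (t : T) :
    ∃ x : X, q x = t ∧ FlatFun.IsGenericPtOfFibre q x := by
  let g := genericPoint (q.fiber t)
  have ht : q (q.fiberι t g) = t := (q.range_fiberι t).le ⟨g, rfl⟩
  refine ⟨q.fiberι t g, ht, fun x' hx' => ?_⟩
  obtain ⟨o, rfl⟩ : x' ∈ Set.range (q.fiberι t) := (q.range_fiberι t).ge (hx'.trans ht)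
  exact (genericPoint_specializes o).map (q.fiberι t).continuous

theorem eq_of_isGenericPtOfFibre {x y : X} (hx : FlatFun.IsGenericPtOfFibre q x)
    (hy : FlatFun.IsGenericPtOfFibre q y) (h : q y = q x) : y = x :=
  ((hx y h).antisymm (hy x h.symm)).eq.symm

variable {F : X.Modules}

theorem free_stalk_of_isFreeOfRankNear (hM : Coh.IsQCoh F) {p : ℕ} {x : X} (h : FlatFun.IsFreeOfRankNear F p x) :
    Module.Free (X.presheaf.stalk x) (F.presheaf.stalk x) ∧
      Module.finrank (X.presheaf.stalk x) (F.presheaf.stalk x) = p := by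
  obtain ⟨U, hxU, ⟨e⟩⟩ := h
  obtain ⟨V, hV, hxV, hle⟩ := exists_isAffineOpen_mem_and_subset (x := x) (U := U) hxU
  obtain ⟨l⟩ := QCoh.free_sections hV hle e
  refine ⟨?_, QCoh.finrank_stalk_of_freeChart hV hM l hxV⟩
  haveI : Module.Free Γ(X, V) Γ(F, V) := Module.Free.of_equiv l.symm
  letI := QCoh.stalkAlg (X := X) hxV
  letI := QCoh.stalkModule F hxV
  haveI := QCoh.isScalarTower_stalk F hxV
  haveI := QCoh.isLocalization_stalk' hV hxV
  haveI := QCoh.isLocalizedModule_germLin hM hV hxV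
  exact Module.free_of_isLocalizedModule (hV.primeIdealOf ⟨x, hxV⟩).asIdeal.primeCompl (QCoh.germLin F hxV)

theorem isFreeOfRankNear_of_free_stalk [Smooth q] [GeometricallyIrreducible q] (hM : Coh.IsQCoh F)
    (hF : CohB1.IsFT F) (p : ℕ)
    (h : ∀ x, FlatFun.IsGenericPtOfFibre q x → Module.Free (X.presheaf.stalk x) (F.presheaf.stalk x) ∧
      Module.finrank (X.presheaf.stalk x) (F.presheaf.stalk x) = p)
    {x : X} (hx : FlatFun.IsGenericPtOfFibre q x) : FlatFun.IsFreeOfRankNear F p x := by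
  classical
  obtain ⟨W, hW, hxW, -⟩ := exists_isAffineOpen_mem_and_subset (x := q x) (U := ⊤) trivial
  obtain ⟨V, hV, hxV, hVW⟩ := exists_isAffineOpen_mem_and_subset (x := x) (U := q ⁻¹ᵁ W) hxW
  -- generators near `x`
  haveI := QCoh.finite_of_isFT hM hF hV
  letI := QCoh.stalkAlg (X := X) hxV
  letI := QCoh.stalkModule F hxV
  haveI := QCoh.isScalarTower_stalk F hxV
  haveI := QCoh.isLocalization_stalk' hV hxV
  haveI := QCoh.isLocalizedModule_germLin hM hV hxV
  haveI := QCoh.finite_stalk_of_isFT hM hF x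
  haveI := (h x hx).1
  let b := Module.finBasisOfFinrankEq (X.presheaf.stalk x) (F.presheaf.stalk x) (h x hx).2
  choose m hm using fun j => IsLocalizedModule.surj (hV.primeIdealOf ⟨x, hxV⟩).asIdeal.primeCompl
    (QCoh.germLin F hxV) (b j)
  let φ : (Fin p → Γ(X, V)) →ₗ[Γ(X, V)] Γ(F, V) := Fintype.linearCombination Γ(X, V) fun j => (m j).1
  have hloc : ∀ n : Γ(F, V), ∃ s ∉ (hV.primeIdealOf ⟨x, hxV⟩).asIdeal, s • n ∈ LinearMap.range φ := by
    intro n
    let ℓ := QCoh.germLin F hxV
    have key : ∀ y : F.presheaf.stalk x, ∃ s : (hV.primeIdealOf ⟨x, hxV⟩).asIdeal.primeCompl,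
        ∃ v, (s : Γ(X, V)) • y = ℓ (φ v) := by
      intro y
      have hy : y ∈ Submodule.span (X.presheaf.stalk x) (Set.range b) := b.span_eq ▸ trivial
      induction hy using Submodule.span_induction with
      | mem y hy =>
        obtain ⟨j, rfl⟩ := hy
        exact ⟨(m j).2, Pi.single j 1, by
          rw [show φ (Pi.single j 1) = (m j).1 by simp [φ, Fintype.linearCombination_apply_single]]
          exact hm j⟩
      | zero => exact ⟨1, 0, by rw [smul_zero, map_zero, map_zero]⟩
      | add y y' _ _ hy hy' =>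
        obtain ⟨s, v, hv⟩ := hy
        obtain ⟨s', v', hv'⟩ := hy'
        refine ⟨s * s', (s' : Γ(X, V)) • v + (s : Γ(X, V)) • v', ?_⟩
        rw [Submonoid.coe_mul, smul_add, map_add, map_add, map_smul φ, map_smul φ, map_smul ℓ, map_smul ℓ,
          ← hv, ← hv', smul_smul, smul_smul, mul_comm (s' : Γ(X, V))]
      | smul a y _ hy =>
        obtain ⟨s, v, hv⟩ := hy
        obtain ⟨⟨c, t⟩, hc⟩ := IsLocalization.surj (hV.primeIdealOf ⟨x, hxV⟩).asIdeal.primeCompl a
        refine ⟨s * t, c • v, ?_⟩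
        rw [Submonoid.coe_mul, map_smul φ, map_smul ℓ, ← hv, smul_smul, ← algebraMap_smul (X.presheaf.stalk x),
          smul_smul, ← algebraMap_smul (X.presheaf.stalk x) (c * (s : Γ(X, V))) y, map_mul, map_mul, ← hc]
        congr 1
        ring
    obtain ⟨s, v, hv⟩ := key (ℓ n)
    rw [← map_smul] at hv
    obtain ⟨t, ht⟩ := IsLocalizedModule.exists_of_eq (S := (hV.primeIdealOf ⟨x, hxV⟩).asIdeal.primeCompl) hv.symm
    refine ⟨(t : Γ(X, V)) * (s : Γ(X, V)), (t * s).2, ⟨(t : Γ(X, V)) • v, ?_⟩⟩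
    rw [map_smul, mul_smul]
    exact ht
  obtain ⟨gens, hgens⟩ := (inferInstance : Module.Finite Γ(X, V) Γ(F, V)).fg_top
  choose s hs hsr using hloc
  let g := ∏ n ∈ gens, s n
  have hg : g ∉ (hV.primeIdealOf ⟨x, hxV⟩).asIdeal := fun hgm => by
    obtain ⟨n, -, hn⟩ := (Ideal.IsPrime.prod_mem_iff (hp := (hV.primeIdealOf ⟨x, hxV⟩).isPrime)).1 hgm
    exact hs n hn
  have hgr : ∀ n, g • n ∈ LinearMap.range φ := by
    intro n
    have hn : n ∈ Submodule.span Γ(X, V) (gens : Set Γ(F, V)) := hgens ▸ trivial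
    induction hn using Submodule.span_induction with
    | mem n hn =>
      rw [show g = (∏ i ∈ gens.erase n, s i) * s n from (Finset.prod_erase_mul gens s hn).symm, mul_smul]
      exact Submodule.smul_mem _ _ (hsr n)
    | zero => rw [smul_zero]; exact zero_mem _
    | add a b _ _ ha hb => rw [smul_add]; exact add_mem ha hb
    | smul r a _ ha => rw [smul_comm]; exact Submodule.smul_mem _ r ha
  -- on `U = D(g)` the map is surjective
  let U := X.basicOpen g
  have hU : IsAffineOpen U := hV.basicOpen g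
  have hUV : U ≤ V := X.basicOpen_le g
  have hxU : x ∈ U := (QCoh.mem_basicOpen_iff_notMem hV hxV g).2 hg
  let ψ : (Fin p → Γ(X, U)) →ₗ[Γ(X, U)] Γ(F, U) :=
    Fintype.linearCombination Γ(X, U) fun j => F.presheaf.map (homOfLE hUV).op (m j).1
  have hψ : Function.Surjective ψ := by
    letI := QCoh.basicModule g F
    haveI := QCoh.isLocalizedModule_basicRes g hM hV
    haveI := hV.isLocalization_basicOpen g
    intro y
    obtain ⟨⟨n, r⟩, hr⟩ := IsLocalizedModule.surj (Submonoid.powers g) (QCoh.basicRes g F) y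
    obtain ⟨v, hv⟩ := hgr n
    have hu : IsUnit (algebraMap Γ(X, V) Γ(X, U) g * algebraMap Γ(X, V) Γ(X, U) (r : Γ(X, V))) :=
      ((IsLocalization.map_units Γ(X, U) (⟨g, Submonoid.mem_powers g⟩ : Submonoid.powers g))).mul
        (IsLocalization.map_units Γ(X, U) r)
    refine ⟨(↑hu.unit⁻¹ : Γ(X, U)) • fun j => algebraMap Γ(X, V) Γ(X, U) (v j), ?_⟩
    rw [map_smul]
    have e1 : ψ (fun j => algebraMap Γ(X, V) Γ(X, U) (v j)) = QCoh.basicRes g F (φ v) := by
      simp only [ψ, φ, Fintype.linearCombination_apply, map_sum, map_smul]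
      rfl
    rw [e1, hv, map_smul, ← hr, Submonoid.smul_def]
    show (↑hu.unit⁻¹ : Γ(X, U)) • algebraMap Γ(X, V) Γ(X, U) g • algebraMap Γ(X, V) Γ(X, U) (r : Γ(X, V)) • y = y
    rw [smul_smul, smul_smul, mul_assoc, hu.val_inv_mul, one_smul]
  -- it is injective
  have hUW : U ≤ q ⁻¹ᵁ W := hUV.trans hVW
  letI : Algebra Γ(T, W) Γ(X, U) := (q.appLE W U hUW).hom.toAlgebra
  haveI : Algebra.Smooth Γ(T, W) Γ(X, U) :=
    HasRingHomProperty.appLE @Smooth q inferInstance ⟨W, hW⟩ ⟨U, hU⟩ hUW
  have hbij : Function.Bijective ψ := by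
    refine bijective_of_generic (A := Γ(T, W)) ψ hψ fun Q hQ => ?_
    let z := hU.fromSpec ⟨Q, hQ⟩
    have hzU : z ∈ U := hU.range_fromSpec.le ⟨_, rfl⟩
    obtain ⟨x₀, hx₀, hgen⟩ := exists_isGenericPtOfFibre q (q z)
    have hsp := hgen z (hx₀.symm ▸ rfl)
    have hx₀U : x₀ ∈ U := hsp.mem_open U.2 hzU
    have hpz : hU.primeIdealOf ⟨z, hzU⟩ = ⟨Q, hQ⟩ := hU.fromSpec.isOpenEmbedding.injective (by
      rw [IsAffineOpen.fromSpec_primeIdealOf])
    have hunder : ∀ {w : X} (hw : w ∈ U), (hU.primeIdealOf ⟨w, hw⟩).asIdeal.under Γ(T, W) =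
        (hW.primeIdealOf ⟨q w, hUW hw⟩).asIdeal := fun hw =>
      congrArg PrimeSpectrum.asIdeal (IsAffineOpen.comap_primeIdealOf_appLE W hW U hU hUW hw)
    have hQu : Q.under Γ(T, W) = (hW.primeIdealOf ⟨q z, hUW hzU⟩).asIdeal := by
      rw [← hunder hzU, hpz]
    refine ⟨(hU.primeIdealOf ⟨x₀, hx₀U⟩).asIdeal, (hU.primeIdealOf ⟨x₀, hx₀U⟩).isPrime, ?_, ?_, ?_⟩
    · rw [hunder hx₀U, hQu]
      congr 3
    · intro Q' hQ' hQ'u
      let z' := hU.fromSpec ⟨Q', hQ'⟩
      have hz'U : z' ∈ U := hU.range_fromSpec.le ⟨_, rfl⟩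
      have hpz' : hU.primeIdealOf ⟨z', hz'U⟩ = ⟨Q', hQ'⟩ := hU.fromSpec.isOpenEmbedding.injective (by
        rw [IsAffineOpen.fromSpec_primeIdealOf])
      have hqz : q z' = q z := by
        have h1 : (hW.primeIdealOf ⟨q z', hUW hz'U⟩) = hW.primeIdealOf ⟨q z, hUW hzU⟩ := by
          apply PrimeSpectrum.ext
          rw [← hunder hz'U, hpz', ← hQu]
          exact hQ'u
        have h2 := congrArg hW.fromSpec h1
        rwa [IsAffineOpen.fromSpec_primeIdealOf, IsAffineOpen.fromSpec_primeIdealOf] at h2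
      have h3 : hU.primeIdealOf ⟨x₀, hx₀U⟩ ⤳ (⟨Q', hQ'⟩ : PrimeSpectrum Γ(X, U)) := by
        refine hU.fromSpec.isOpenEmbedding.isInducing.specializes_iff.1 ?_
        rw [IsAffineOpen.fromSpec_primeIdealOf]
        exact hgen z' (hqz.trans hx₀.symm)
      exact (PrimeSpectrum.le_iff_specializes _ _).2 h3
    · intro v hv
      haveI := QCoh.finite_stalk_of_isFT hM hF x₀
      haveI := (h x₀ hgen).1
      letI := QCoh.stalkAlg (X := X) hx₀U
      letI := QCoh.stalkModule F hx₀U
      haveI := QCoh.isScalarTower_stalk F hx₀U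
      haveI := QCoh.isLocalization_stalk' hU hx₀U
      haveI := QCoh.isLocalizedModule_germLin hM hU hx₀U
      let O := X.presheaf.stalk x₀
      let Θ : (Fin p → O) →ₗ[O] F.presheaf.stalk x₀ :=
        Fintype.linearCombination O fun j => QCoh.germLin F hx₀U (F.presheaf.map (homOfLE hUV).op (m j).1)
      have hΘψ : ∀ w, Θ (fun j => algebraMap Γ(X, U) O (w j)) = QCoh.germLin F hx₀U (ψ w) := by
        intro w
        simp only [Θ, ψ, Fintype.linearCombination_apply, map_sum, map_smul, algebraMap_smul]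
      have hΘs : Function.Surjective Θ := by
        intro y
        obtain ⟨⟨n, r⟩, hr⟩ := IsLocalizedModule.surj (hU.primeIdealOf ⟨x₀, hx₀U⟩).asIdeal.primeCompl
          (QCoh.germLin F hx₀U) y
        obtain ⟨w, rfl⟩ := hψ n
        refine ⟨(↑(IsLocalization.map_units O r).unit⁻¹ : O) • fun j => algebraMap Γ(X, U) O (w j), ?_⟩
        rw [map_smul, hΘψ, ← hr, Submonoid.smul_def, ← algebraMap_smul O (r : Γ(X, U)), smul_smul,
          IsUnit.val_inv_mul, one_smul]
      let b₀ := Module.finBasisOfFinrankEq O (F.presheaf.stalk x₀) (h x₀ hgen).2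
      have hΘi : Function.Injective Θ := by
        have h1 : Function.Bijective (b₀.equivFun.toLinearMap ∘ₗ Θ) :=
          OrzechProperty.bijective_of_surjective_endomorphism _ (b₀.equivFun.surjective.comp hΘs)
        exact fun a a' e => h1.1 (congrArg b₀.equivFun e)
      have h0 : (fun j => algebraMap Γ(X, U) O (v j)) = 0 :=
        hΘi (by rw [hΘψ, hv, map_zero, map_zero])
      choose r hr using fun j => (IsLocalization.map_eq_zero_iff (hU.primeIdealOf ⟨x₀, hx₀U⟩).asIdeal.primeCompl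
        O (v j)).1 (congr_fun h0 j)
      refine ⟨∏ j, (r j : Γ(X, U)), fun hm' => ?_, ?_⟩
      · exact (prod_mem (fun j _ => (r j).2) : (∏ j, (r j : Γ(X, U))) ∈ (hU.primeIdealOf ⟨x₀, hx₀U⟩).asIdeal.primeCompl) hm'
      · funext j
        rw [Pi.smul_apply, smul_eq_mul, Pi.zero_apply, ← Finset.prod_erase_mul Finset.univ _ (Finset.mem_univ j),
          mul_assoc, hr j, mul_zero]
  exact ⟨U, hxU, QCoh.exists_free_restrict hM hU
    ((LinearEquiv.ofBijective ψ hbij).symm.trans ((LinearEquiv.funCongrLeft Γ(X, U) Γ(X, U) Equiv.ulift).trans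
      (Finsupp.linearEquivFunOnFinite Γ(X, U) Γ(X, U) (ULift.{u} (Fin p))).symm))⟩

/-- The criterion: freeness near the generic points is freeness of the stalks there. -/
theorem freeAtGenericPts_iff [Smooth q] [GeometricallyIrreducible q] (hM : Coh.IsQCoh F) (hF : CohB1.IsFT F) (p : ℕ) :
    FlatFun.FreeAtGenericPts q F p ↔ ∀ x, FlatFun.IsGenericPtOfFibre q x →
      Module.Free (X.presheaf.stalk x) (F.presheaf.stalk x) ∧
      Module.finrank (X.presheaf.stalk x) (F.presheaf.stalk x) = p := by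
  constructor
  · intro h x hx
    obtain ⟨y, hy, hgy, hnear⟩ := h (q x)
    obtain rfl := eq_of_isGenericPtOfFibre q hx hgy hy
    exact free_stalk_of_isFreeOfRankNear hM hnear
  · intro h t
    obtain ⟨x, hx, hgx⟩ := exists_isGenericPtOfFibre q t
    exact ⟨x, hx, hgx, isFreeOfRankNear_of_free_stalk q hM hF p h hgx⟩

end Groth.Agent.FlatHpHx
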