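import Groth.Agent.FlatHpHx.Criterion
import Groth.Agent.FlatFunHx.Flat
import Groth.Agent.FittX.Sheaf

/-!
The functor `H_p`: stability under base change and descent along flat covers.
-/

set_option autoImplicit false
set_option linter.style.haveILetI false
set_option backward.isDefEq.respectTransparency false
set_option maxHeartbeats 1000000
set_option linter.unusedSectionVars false

universe w u

open CategoryTheory CategoryTheory.Limits AlgebraicGeometry Opposite TensorProduct

namespace Groth.Agent.FlatHpHx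

variable {X S : Scheme.{u}} (f : X ⟶ S) {T T' : Over S}

/-- Generic points of fibres map to generic points of fibres. -/
theorem isGenericPtOfFibre_map [GeometricallyIrreducible f] (g : T' ⟶ T) {x' : PicF.XT f T'}
    (hx' : FlatFun.IsGenericPtOfFibre (PicF.XTproj f T') x') :
    FlatFun.IsGenericPtOfFibre (PicF.XTproj f T) (PicF.XTmap f g x') := by
  have sq := FlatFunHx.isPullback_XTmap f g
  obtain ⟨y, hy, hgy⟩ := exists_isGenericPtOfFibre (PicF.XTproj f T) (g.left (PicF.XTproj f T' x'))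
  obtain ⟨o, rfl, ho⟩ := Scheme.exists_preimage_of_isPullback sq y (PicF.XTproj f T' x') hy
  have h1 : PicF.XTmap f g x' ⤳ PicF.XTmap f g o := (hx' o ho).map (PicF.XTmap f g).continuous
  have h2 : PicF.XTproj f T (PicF.XTmap f g x') = g.left (PicF.XTproj f T' x') := by
    rw [← Scheme.Hom.comp_apply, sq.w, Scheme.Hom.comp_apply]
  rw [(h1.antisymm (hgy _ (h2.trans hy.symm))).eq]
  exact hgy

variable [Smooth f] [GeometricallyIrreducible f] (F : X.Modules) [Coh.IsQCoh F]

/-- The stalk of `F_{T'}` in terms of that of `F_T`. -/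
theorem exists_stalk_equiv (g : T' ⟶ T) (x' : PicF.XT f T') :
    letI := ((PicF.XTmap f g).stalkMap x').hom.toAlgebra
    Nonempty ((FGA.ET f F T').presheaf.stalk x' ≃ₗ[(PicF.XT f T').presheaf.stalk x']
      (PicF.XT f T').presheaf.stalk x' ⊗[(PicF.XT f T).presheaf.stalk (PicF.XTmap f g x')]
        (FGA.ET f F T).presheaf.stalk (PicF.XTmap f g x')) :=
  ⟨((DerSch.stalkFunctor _ x').mapIso (FlatFunHx.ETIso f F g).symm ≪≫
    (KFlatLib.stalkPullbackIso (PicF.XTmap f g) x').app (FGA.ET f F T)).toLinearEquiv⟩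

/-- The criterion on base changes. -/
theorem freeAt_iff (hF : CohB1.IsFT F) (p : ℕ) (T : Over S) :
    FlatFun.FreeAtGenericPts (PicF.XTproj f T) (FGA.ET f F T) p ↔
      ∀ x, FlatFun.IsGenericPtOfFibre (PicF.XTproj f T) x →
        Module.Free ((PicF.XT f T).presheaf.stalk x) ((FGA.ET f F T).presheaf.stalk x) ∧
        Module.finrank ((PicF.XT f T).presheaf.stalk x) ((FGA.ET f F T).presheaf.stalk x) = p :=
  freeAtGenericPts_iff (PicF.XTproj f T) (QCoh.isQCoh_pullback _ ‹Coh.IsQCoh F›)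
    (FittX.isFT_pullback _ ‹Coh.IsQCoh F› hF) p

include f in
theorem freeAt_of_hom (hF : CohB1.IsFT F) (p : ℕ) (g : T' ⟶ T)
    (h : FlatFun.FreeAtGenericPts (PicF.XTproj f T) (FGA.ET f F T) p) :
    FlatFun.FreeAtGenericPts (PicF.XTproj f T') (FGA.ET f F T') p := by
  rw [freeAt_iff f F hF] at h ⊢
  intro x' hx'
  obtain ⟨hfree, hrk⟩ := h _ (isGenericPtOfFibre_map f g hx')
  letI := ((PicF.XTmap f g).stalkMap x').hom.toAlgebra
  obtain ⟨e⟩ := exists_stalk_equiv f F g x'
  haveI := hfree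
  refine ⟨Module.Free.of_equiv e.symm, ?_⟩
  rw [e.finrank_eq, Module.finrank_baseChange, hrk]

theorem freeAt_of_cover (hF : CohB1.IsFT F) (p : ℕ) {ι : Type w} {Ti : ι → Over S} (gi : ∀ i, Ti i ⟶ T)
    (hf : ∀ i, Flat (gi i).left) (hs : ∀ x, ∃ i, x ∈ Set.range (gi i).left)
    (h : ∀ i, FlatFun.FreeAtGenericPts (PicF.XTproj f (Ti i)) (FGA.ET f F (Ti i)) p) :
    FlatFun.FreeAtGenericPts (PicF.XTproj f T) (FGA.ET f F T) p := by
  rw [freeAt_iff f F hF]
  intro x hx
  obtain ⟨i, t', ht'⟩ := hs (PicF.XTproj f T x)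
  obtain ⟨x', hx't, hgen⟩ := exists_isGenericPtOfFibre (PicF.XTproj f (Ti i)) t'
  have hproj : PicF.XTproj f T (PicF.XTmap f (gi i) x') = PicF.XTproj f T x := by
    rw [← Scheme.Hom.comp_apply, (FlatFunHx.isPullback_XTmap f (gi i)).w, Scheme.Hom.comp_apply, hx't, ht']
  obtain rfl := eq_of_isGenericPtOfFibre _ hx (isGenericPtOfFibre_map f (gi i) hgen) hproj
  obtain ⟨hfree, hrk⟩ := (freeAt_iff f F hF p (Ti i)).1 (h i) x' hgen
  haveI := hf i
  haveI := FlatFunHx.flat_XTmap f (gi i)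
  let O := (PicF.XT f T).presheaf.stalk (PicF.XTmap f (gi i) x')
  let O' := (PicF.XT f (Ti i)).presheaf.stalk x'
  let M := (FGA.ET f F T).presheaf.stalk (PicF.XTmap f (gi i) x')
  letI : Algebra O O' := ((PicF.XTmap f (gi i)).stalkMap x').hom.toAlgebra
  haveI : Module.FaithfullyFlat O O' := FlatFunHx.faithfullyFlat_stalkMap _ x'
  haveI : Module.Finite O M := QCoh.finite_stalk_of_isFT (QCoh.isQCoh_pullback _ ‹Coh.IsQCoh F›)
    (FittX.isFT_pullback _ ‹Coh.IsQCoh F› hF) _
  obtain ⟨e⟩ := exists_stalk_equiv f F (gi i) x'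
  haveI := hfree
  haveI : Module.Free O' (O' ⊗[O] M) := Module.Free.of_equiv e
  haveI : Module.Flat O M :=
    Groth.Agent.S1392.descend (R := O) (A := O) (R' := O') (L := O') inferInstance
  haveI : Module.Free O M := Module.free_of_flat_of_isLocalRing
  refine ⟨inferInstance, ?_⟩
  rw [← hrk, e.finrank_eq, Module.finrank_baseChange]

end Groth.Agent.FlatHpHx
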