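import Groth.Agent.FlatHpHx.Functor
import Groth.Agent.FlatLimHx.Functor

/-!
The functor `H_p` is limit preserving.
-/

set_option autoImplicit false
set_option linter.style.haveILetI false
set_option backward.isDefEq.respectTransparency false
set_option maxHeartbeats 1000000
set_option linter.unusedSectionVars false

universe u

open CategoryTheory CategoryTheory.Limits AlgebraicGeometry TopologicalSpace Opposite TensorProduct

namespace Groth.Agent.FlatHpHx

section Alg

variable (R : Type u) [CommRing R] [IsLocalRing R] (M : Type u) [AddCommGroup M] [Module R M]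

/-- Freeness of a base change of a finitely presented module over a local ring needs finitely many
elements of the ring to vanish. -/
theorem exists_killed [Module.FinitePresentation R M] (R' : Type u) [CommRing R'] [IsLocalRing R'] [Algebra R R']
    [IsLocalHom (algebraMap R R')] (p : ℕ) [Module.Free R' (R' ⊗[R] M)]
    (hp : Module.finrank R' (R' ⊗[R] M) = p) :
    ∃ Ks : Finset R, (∀ a ∈ Ks, algebraMap R R' a = 0) ∧
      ∀ (R'' : Type u) [CommRing R''] [IsLocalRing R''] [Algebra R R''], (∀ a ∈ Ks, algebraMap R R'' a = 0) →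
        Module.Free R'' (R'' ⊗[R] M) ∧ Module.finrank R'' (R'' ⊗[R] M) = p := by
  classical
  obtain ⟨φ, hφ⟩ : ∃ φ : (Fin p → R) →ₗ[R] M, Function.Surjective φ := by
    let κ := IsLocalRing.ResidueField R
    let κ' := IsLocalRing.ResidueField R'
    have hdim : Module.finrank κ (κ ⊗[R] M) = p := by
      have h1 : Module.finrank κ' (κ' ⊗[R] M) = p := by
        rw [← (AlgebraTensorModule.cancelBaseChange R R' κ' κ' M).finrank_eq, Module.finrank_baseChange, hp]
      have := (AlgebraTensorModule.cancelBaseChange R κ κ' κ' M).finrank_eq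
      rw [Module.finrank_baseChange] at this
      rw [this, h1]
    let b := Module.finBasisOfFinrankEq κ (κ ⊗[R] M) hdim
    have hsurj : Function.Surjective (TensorProduct.mk R κ M 1) :=
      TensorProduct.mk_surjective R M κ Ideal.Quotient.mk_surjective
    choose m hm using fun i => hsurj (b i)
    refine ⟨Fintype.linearCombination R m, ?_⟩
    rw [← LinearMap.range_eq_top, Fintype.range_linearCombination]
    apply IsLocalRing.span_eq_top_of_tmul_eq_basis (f := m) b
    exact hm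
  obtain ⟨V, hV⟩ := Module.FinitePresentation.fg_ker φ hφ
  refine ⟨(V.product Finset.univ).image fun vj => vj.1 vj.2, ?_, ?_⟩
  · intro a ha
    obtain ⟨⟨v, j⟩, hvj, rfl⟩ := Finset.mem_image.1 ha
    let e := (Module.finBasisOfFinrankEq R' (R' ⊗[R] M) hp).equivFun
    let σ : R' ⊗[R] (Fin p → R) →ₗ[R'] R' ⊗[R] M := φ.baseChange R'
    let τ : (Fin p → R') ≃ₗ[R'] R' ⊗[R] (Fin p → R) :=
      (TensorProduct.piScalarRight R R' R' (Fin p)).symm
    have hbij : Function.Bijective (e.toLinearMap ∘ₗ σ ∘ₗ τ.toLinearMap) := by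
      apply OrzechProperty.bijective_of_surjective_endomorphism
      exact e.surjective.comp ((LinearMap.baseChange_surjective R' hφ).comp τ.surjective)
    have hv : σ ((1 : R') ⊗ₜ v) = 0 := by
      have : φ v = 0 := by
        rw [← LinearMap.mem_ker, ← hV]
        exact Submodule.subset_span (Finset.mem_product.1 hvj).1
      simp [σ, this]
    have h0 : τ.symm ((1 : R') ⊗ₜ v) = 0 := by
      apply hbij.1
      rw [map_zero]
      simp [hv]
    have := congrFun h0 j
    simpa [τ, TensorProduct.piScalarRight_apply, Algebra.smul_def] using this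
  · intro R'' _ _ _ hK
    have hex := lTensor_exact R'' (LinearMap.exact_subtype_ker_map φ) hφ
    have hv : ∀ v ∈ LinearMap.ker φ, ∀ r : R'', r ⊗ₜ[R] v = 0 := by
      intro v hv r
      rw [← hV] at hv
      induction hv using Submodule.span_induction with
      | mem v hv =>
        apply (TensorProduct.piScalarRight R R'' R'' (Fin p)).injective
        ext j
        have : algebraMap R R'' (v j) = 0 :=
          hK _ (Finset.mem_image.2 ⟨(v, j), Finset.mem_product.2 ⟨hv, Finset.mem_univ j⟩, rfl⟩)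
        simp [TensorProduct.piScalarRight_apply, Algebra.smul_def, this]
      | zero => simp
      | add a b _ _ ha hb => rw [tmul_add, ha, hb, add_zero]
      | smul a b _ hb => rw [tmul_smul, hb, smul_zero]
    have h0 : (LinearMap.ker φ).subtype.lTensor R'' = 0 :=
      TensorProduct.ext' fun r k => hv k.1 k.2 r
    have hinj : Function.Injective (φ.baseChange R'') := by
      rw [injective_iff_map_eq_zero]
      intro z hz
      obtain ⟨w, rfl⟩ := (hex z).1 hz
      rw [h0, LinearMap.zero_apply]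
    let e := (LinearEquiv.ofBijective (φ.baseChange R'') ⟨hinj, LinearMap.baseChange_surjective R'' hφ⟩).symm.trans
      (TensorProduct.piScalarRight R R'' R'' (Fin p))
    exact ⟨Module.Free.of_equiv e.symm, by rw [e.finrank_eq, Module.finrank_fin_fun]⟩

end Alg

section Scheme

variable {Y Z W : Scheme.{u}}

/-- Finite presentation is stable under pullback. -/
theorem isFP_pullback (g : Y ⟶ Z) {M : Z.Modules} (hfp : CohB1.IsFP M) :
    CohB1.IsFP ((Scheme.Modules.pullback g).obj M) := by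
  have hM := QCoh.isQCoh_of_isFP hfp
  let ι := {p : Y.affineOpens × Z.affineOpens // (p.1.1 : Y.Opens) ≤ g ⁻¹ᵁ p.2.1}
  refine QCoh.isFP_of_finitePresentation (QCoh.isQCoh_pullback g hM) (fun i : ι => i.1.1.1) ?_ (fun i => i.1.1.2)
    fun i => ?_
  · exact top_le_iff.1 fun y _ => Opens.mem_iSup.2 <| by
      obtain ⟨_, ⟨U, hU, rfl⟩, hxU, -⟩ :=
        Z.isBasis_affineOpens.exists_subset_of_mem_open (Set.mem_univ (g y)) isOpen_univ
      obtain ⟨_, ⟨V, hV, rfl⟩, hyV, hVU⟩ :=
        Y.isBasis_affineOpens.exists_subset_of_mem_open (show y ∈ g ⁻¹ᵁ U from hxU) (g ⁻¹ᵁ U).2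
      exact ⟨⟨(⟨V, hV⟩, ⟨U, hU⟩), hVU⟩, hyV⟩
  · obtain ⟨⟨⟨V, hV⟩, ⟨U, hU⟩⟩, hVU⟩ := i
    let N := (Scheme.Modules.pullback g).obj M
    letI : Algebra Γ(Z, U) Γ(Y, V) := (g.appLE U V hVU).hom.toAlgebra
    letI : Module Γ(Z, U) Γ(N, V) := Module.compHom _ (g.appLE U V hVU).hom
    haveI : IsScalarTower Γ(Z, U) Γ(Y, V) Γ(N, V) :=
      ⟨fun a b c => mul_smul ((g.appLE U V hVU).hom a) b c⟩
    haveI := QCoh.finitePresentation_of_isFP hfp hU
    let l : Γ(M, U) →ₗ[Γ(Z, U)] Γ(N, V) :=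
      { toFun := QCoh.pullSec g M hVU
        map_add' := QCoh.pullSec_add g M hVU
        map_smul' := QCoh.pullSec_smul g M hVU }
    exact FinitePresentation.of_isBaseChange l
      (QCoh.isBaseChange_pullback hU g hV hM hVU (fun r => rfl) l fun x => rfl)

theorem finitePresentation_stalk {M : Z.Modules} (hfp : CohB1.IsFP M) (z : Z) :
    Module.FinitePresentation (Z.presheaf.stalk z) (M.presheaf.stalk z) := by
  obtain ⟨_, ⟨U, hU, rfl⟩, hx, -⟩ :=
    Z.isBasis_affineOpens.exists_subset_of_mem_open (Set.mem_univ z) isOpen_univ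
  have hU' : IsAffineOpen U := hU
  haveI := QCoh.finitePresentation_of_isFP hfp hU'
  letI := QCoh.stalkAlg (X := Z) hx
  letI := QCoh.stalkModule M hx
  haveI := QCoh.isScalarTower_stalk M hx
  haveI := QCoh.isLocalization_stalk' hU' hx
  haveI := QCoh.isLocalizedModule_germLin (QCoh.isQCoh_of_isFP hfp) hU' hx
  exact FinitePresentation.of_isBaseChange (QCoh.germLin M hx)
    (IsLocalizedModule.isBaseChange (hU'.primeIdealOf ⟨z, hx⟩).asIdeal.primeCompl (Z.presheaf.stalk z)
      (QCoh.germLin M hx))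

theorem free_of_killed {M : Z.Modules} (p : ℕ) {k : W ⟶ Z} {w : W} {z : Z} (e : k w = z)
    (Ks : Finset (Z.presheaf.stalk z))
    (hcrit : ∀ (R'' : Type u) [CommRing R''] [IsLocalRing R''] [Algebra (Z.presheaf.stalk z) R''],
      (∀ a ∈ Ks, algebraMap (Z.presheaf.stalk z) R'' a = 0) →
        Module.Free R'' (R'' ⊗[Z.presheaf.stalk z] M.presheaf.stalk z) ∧
          Module.finrank R'' (R'' ⊗[Z.presheaf.stalk z] M.presheaf.stalk z) = p)
    (hkill : ∀ a ∈ Ks, ∃ (U : Z.Opens) (hU : z ∈ U) (s : Γ(Z, U)), Z.presheaf.germ U z hU s = a ∧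
      W.presheaf.germ (k ⁻¹ᵁ U) w (show k w ∈ U from e.symm ▸ hU) (k.app U s) = 0) :
    Module.Free (W.presheaf.stalk w) (((Scheme.Modules.pullback k).obj M).presheaf.stalk w) ∧
      Module.finrank (W.presheaf.stalk w) (((Scheme.Modules.pullback k).obj M).presheaf.stalk w) = p := by
  subst e
  letI : Algebra (Z.presheaf.stalk (k w)) (W.presheaf.stalk w) := (k.stalkMap w).hom.toAlgebra
  let e : ((Scheme.Modules.pullback k).obj M).presheaf.stalk w ≃ₗ[W.presheaf.stalk w]
      W.presheaf.stalk w ⊗[Z.presheaf.stalk (k w)] M.presheaf.stalk (k w) :=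
    ((KFlatLib.stalkPullbackIso k w).app M).toLinearEquiv
  obtain ⟨h1, h2⟩ := hcrit (W.presheaf.stalk w) fun a ha => by
    obtain ⟨U, hU, s, hs, h0⟩ := hkill a ha
    rw [← hs]
    show (k.stalkMap w) (Z.presheaf.germ U (k w) hU s) = 0
    rw [Scheme.Hom.germ_stalkMap_apply]
    exact h0
  exact ⟨Module.Free.of_equiv e.symm, e.finrank_eq.trans h2⟩

/-- Freeness of the stalk of a pullback is governed by the vanishing of finitely many local sections. -/
theorem exists_sections_killed (g : Y ⟶ Z) {M : Z.Modules} (hfp : CohB1.IsFP M) (y : Y) (p : ℕ)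
    (h : Module.Free (Y.presheaf.stalk y) (((Scheme.Modules.pullback g).obj M).presheaf.stalk y) ∧
      Module.finrank (Y.presheaf.stalk y) (((Scheme.Modules.pullback g).obj M).presheaf.stalk y) = p) :
    ∃ (Ks : Finset (Z.presheaf.stalk (g y))),
      (∀ a ∈ Ks, g.stalkMap y a = 0) ∧
        ∀ (R'' : Type u) [CommRing R''] [IsLocalRing R''] [Algebra (Z.presheaf.stalk (g y)) R''],
          (∀ a ∈ Ks, algebraMap (Z.presheaf.stalk (g y)) R'' a = 0) →
            Module.Free R'' (R'' ⊗[Z.presheaf.stalk (g y)] M.presheaf.stalk (g y)) ∧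
              Module.finrank R'' (R'' ⊗[Z.presheaf.stalk (g y)] M.presheaf.stalk (g y)) = p := by
  haveI := finitePresentation_stalk hfp (g y)
  letI : Algebra (Z.presheaf.stalk (g y)) (Y.presheaf.stalk y) := (g.stalkMap y).hom.toAlgebra
  haveI : IsLocalHom (algebraMap (Z.presheaf.stalk (g y)) (Y.presheaf.stalk y)) :=
    inferInstanceAs (IsLocalHom (g.stalkMap y).hom)
  let e : ((Scheme.Modules.pullback g).obj M).presheaf.stalk y ≃ₗ[Y.presheaf.stalk y]
      Y.presheaf.stalk y ⊗[Z.presheaf.stalk (g y)] M.presheaf.stalk (g y) :=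
    ((KFlatLib.stalkPullbackIso g y).app M).toLinearEquiv
  haveI : Module.Free (Y.presheaf.stalk y) (Y.presheaf.stalk y ⊗[Z.presheaf.stalk (g y)] M.presheaf.stalk (g y)) :=
    letI := h.1
    Module.Free.of_equiv e
  exact exists_killed _ _ (Y.presheaf.stalk y) p (e.finrank_eq.symm.trans h.2)

/-- A local section of a stage whose germ dies at the limit dies at some stage. -/
theorem exists_stage_germ_eq_zero {I : Type u} [SmallCategory I] [IsCofiltered I] (D : I ⥤ Scheme.{u}) (c : Cone D)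
    (hc : IsLimit c) [∀ {i j} (m : i ⟶ j), IsAffineHom (D.map m)] {i : I} (x : c.pt) {U : (D.obj i).Opens}
    (hx : x ∈ c.π.app i ⁻¹ᵁ U) (s : Γ(D.obj i, U))
    (h : c.pt.presheaf.germ (c.π.app i ⁻¹ᵁ U) x hx ((c.π.app i).app U s) = 0) :
    ∃ (j : I) (m : j ⟶ i), ∀ (j' : I) (m' : j' ⟶ j) (hy : c.π.app j' x ∈ D.map (m' ≫ m) ⁻¹ᵁ U),
      (D.obj j').presheaf.germ (D.map (m' ≫ m) ⁻¹ᵁ U) (c.π.app j' x) hy ((D.map (m' ≫ m)).app U s) = 0 := by
  obtain ⟨A, hxA, iA, iB, hA⟩ := c.pt.presheaf.germ_eq x hx hx ((c.π.app i).app U s) 0 (h.trans (map_zero _).symm)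
  rw [map_zero] at hA
  obtain ⟨_, ⟨_, ⟨a, V, hV, rfl⟩, rfl⟩, hxV, hVA⟩ :=
    (isBasis_preimage_isAffineOpen D c hc).exists_subset_of_mem_open (show x ∈ (A : Set c.pt) from hxA) A.2
  obtain ⟨k, ka, ki, -⟩ := IsCofilteredOrEmpty.cone_objs a i
  obtain ⟨V', hV', hxV', hle⟩ := exists_isAffineOpen_mem_and_subset (x := c.π.app k x)
    (U := D.map ka ⁻¹ᵁ V ⊓ D.map ki ⁻¹ᵁ U)
    ⟨by show D.map ka (c.π.app k x) ∈ V; rw [← Scheme.Hom.comp_apply, c.w]; exact hxV,
     by show D.map ki (c.π.app k x) ∈ U; rw [← Scheme.Hom.comp_apply, c.w]; exact hx⟩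
  have hpre : c.π.app k ⁻¹ᵁ V' ≤ A := fun z hz => hVA (by
    show c.π.app a z ∈ V
    rw [← c.w ka, Scheme.Hom.comp_apply]
    exact (hle hz).1)
  have h0 : (c.π.app k).app V' ((D.map ki).appLE U V' (fun z hz => (hle hz).2) s) = 0 := by
    rw [Scheme.Hom.app_eq_appLE, ← CommRingCat.comp_apply, Scheme.Hom.appLE_comp_appLE]
    simp_rw [c.w ki]
    rw [show (c.π.app i).appLE U (c.π.app k ⁻¹ᵁ V') _ =
      (c.π.app i).app U ≫ c.pt.presheaf.map (homOfLE (hpre.trans iA.le)).op from rfl, CommRingCat.comp_apply]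
    rw [show (homOfLE (hpre.trans iA.le)).op = iA.op ≫ (homOfLE hpre).op from rfl, Functor.map_comp,
      CommRingCat.comp_apply]
    erw [hA, map_zero]
  obtain ⟨j, m, hm⟩ := exists_app_map_eq_zero_of_isLimit D c hc hV'.isCompact _ h0
  refine ⟨j, m ≫ ki, fun j' m' hy => ?_⟩
  have hsub : D.map (m' ≫ m) ⁻¹ᵁ V' ≤ D.map (m' ≫ m ≫ ki) ⁻¹ᵁ U := fun z hz => by
    show D.map (m' ≫ m ≫ ki) z ∈ U
    rw [← Category.assoc, D.map_comp, Scheme.Hom.comp_apply]
    exact (hle hz).2
  have hmem : c.π.app j' x ∈ D.map (m' ≫ m) ⁻¹ᵁ V' := by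
    show D.map (m' ≫ m) (c.π.app j' x) ∈ V'
    rw [← Scheme.Hom.comp_apply, c.w]; exact hxV'
  have hz : ∀ φ : D.obj j' ⟶ D.obj k, φ = D.map m' ≫ D.map m →
      φ.app V' ((D.map ki).appLE U V' (fun z hz => (hle hz).2) s) = 0 := by
    rintro φ rfl
    rw [Scheme.Hom.comp_app, CommRingCat.comp_apply, hm, map_zero]
  have hcomp : ∀ {A B C : Scheme.{u}} (a : B ⟶ A) (b : C ⟶ B) (φ : C ⟶ A), φ = b ≫ a →
      ∀ (U : A.Opens) (V : B.Opens) (h₁ : V ≤ a ⁻¹ᵁ U) (h₂ : b ⁻¹ᵁ V ≤ φ ⁻¹ᵁ U),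
        φ.app U ≫ C.presheaf.map (homOfLE h₂).op = a.appLE U V h₁ ≫ b.app V := by
    rintro A B C a b φ rfl U V h₁ h₂
    rw [b.app_eq_appLE, Scheme.Hom.appLE_comp_appLE]
    rfl
  rw [← (D.obj j').presheaf.germ_res_apply (homOfLE hsub) _ hmem, ← CommRingCat.comp_apply,
    ← CommRingCat.comp_apply, ← Category.assoc,
    hcomp (D.map ki) (D.map (m' ≫ m)) _ (by rw [← D.map_comp, Category.assoc]) U V' (fun z hz => (hle hz).2) hsub,
    CommRingCat.comp_apply, CommRingCat.comp_apply, hz _ (D.map_comp _ _), map_zero]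

end Scheme

/-- A common stage for finitely many stages over a given one. -/
theorem exists_lower {I : Type u} [Category.{u} I] [IsCofiltered I] {κ : Type*} (i₀ : I) (j : κ → I)
    (m : ∀ a, j a ⟶ i₀) (t : Finset κ) : ∃ (k : I) (h : k ⟶ i₀), ∀ a ∈ t, ∃ n : k ⟶ j a, n ≫ m a = h := by
  classical
  induction t using Finset.induction with
  | empty => exact ⟨i₀, 𝟙 _, by simp⟩
  | insert a t _ ih =>
    obtain ⟨k, h, hk⟩ := ih
    obtain ⟨l, lk, la, e⟩ := IsCofiltered.cospan h (m a)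
    refine ⟨l, lk ≫ h, fun b hb => ?_⟩
    obtain rfl | hb := Finset.mem_insert.1 hb
    · exact ⟨la, e.symm⟩
    · obtain ⟨n, hn⟩ := hk b hb
      exact ⟨lk ≫ n, by rw [Category.assoc, hn]⟩

section Functor

variable {X S : Scheme.{u}} (f : X ⟶ S) {I : Type u} [SmallCategory I] (D : I ⥤ Over S)

/-- The base changes of `X` along a diagram over `S`. -/
noncomputable def XTfunctor : I ⥤ Scheme.{u} where
  obj i := PicF.XT f (D.obj i)
  map m := PicF.XTmap f (D.map m)
  map_id i := by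
    apply pullback.hom_ext
    · rw [FlatFunHx.XTmap_fst]
      exact (Category.id_comp _).symm
    · show PicF.XTmap f _ ≫ PicF.XTproj f _ = _
      rw [(FlatFunHx.isPullback_XTmap f _).w, D.map_id, Over.id_left, Category.comp_id]
      exact (Category.id_comp _).symm
  map_comp {i j k} m n := by
    apply pullback.hom_ext
    · rw [FlatFunHx.XTmap_fst, Category.assoc, FlatFunHx.XTmap_fst, FlatFunHx.XTmap_fst]
    · show PicF.XTmap f _ ≫ PicF.XTproj f _ = (_ ≫ _) ≫ PicF.XTproj f _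
      rw [(FlatFunHx.isPullback_XTmap f _).w, Category.assoc, (FlatFunHx.isPullback_XTmap f (D.map n)).w,
        ← Category.assoc, (FlatFunHx.isPullback_XTmap f (D.map m)).w, D.map_comp, Over.comp_left, Category.assoc]

/-- The cone of base changes. -/
noncomputable def XTcone (c : Cone D) : Cone (XTfunctor f D) where
  pt := PicF.XT f c.pt
  π :=
    { app := fun i => PicF.XTmap f (c.π.app i)
      naturality := fun i j m => by
        refine (Category.id_comp _).trans ?_
        apply pullback.hom_ext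
        · show _ = (PicF.XTmap f _ ≫ PicF.XTmap f (D.map m)) ≫ _
          rw [Category.assoc, FlatFunHx.XTmap_fst, FlatFunHx.XTmap_fst, FlatFunHx.XTmap_fst]
        · show PicF.XTmap f _ ≫ PicF.XTproj f _ = (PicF.XTmap f _ ≫ PicF.XTmap f (D.map m)) ≫ PicF.XTproj f _
          rw [(FlatFunHx.isPullback_XTmap f _).w, Category.assoc, (FlatFunHx.isPullback_XTmap f (D.map m)).w,
            ← Category.assoc, (FlatFunHx.isPullback_XTmap f (c.π.app i)).w, Category.assoc, ← Over.comp_left,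
            c.w m]
          rfl }

variable [IsCofiltered I]

/-- The base changes form a limit cone. -/
theorem isLimit_XTcone {c : Cone D} (hc : IsLimit ((Over.forget S).mapCone c)) :
    Nonempty (IsLimit (XTcone f D c)) := by
  obtain ⟨i₀⟩ := IsCofiltered.nonempty (C := I)
  have key : ∀ (s : Cone (XTfunctor f D)) (i j : I),
      s.π.app i ≫ pullback.fst f (D.obj i).hom = s.π.app j ≫ pullback.fst f (D.obj j).hom := by
    intro s i j
    obtain ⟨k, ki, kj, -⟩ := IsCofilteredOrEmpty.cone_objs i j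
    rw [← s.w ki, ← s.w kj, Category.assoc, Category.assoc]
    show _ ≫ PicF.XTmap f _ ≫ _ = _ ≫ PicF.XTmap f _ ≫ _
    rw [FlatFunHx.XTmap_fst, FlatFunHx.XTmap_fst]
  let sb : Cone (XTfunctor f D) → Cone (D ⋙ Over.forget S) := fun s =>
    { pt := s.pt
      π :=
        { app := fun i => s.π.app i ≫ PicF.XTproj f (D.obj i)
          naturality := fun i j m => by
            refine (Category.id_comp _).trans ?_
            rw [← s.w m, Category.assoc, Category.assoc]
            exact congrArg _ (FlatFunHx.isPullback_XTmap f (D.map m)).w } }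
  have hl : ∀ s, (s.π.app i₀ ≫ pullback.fst f (D.obj i₀).hom) ≫ f = hc.lift (sb s) ≫ c.pt.hom := fun s => by
    have h1 : c.pt.hom = (c.π.app i₀).left ≫ (D.obj i₀).hom := (Over.w (c.π.app i₀)).symm
    have h2 : hc.lift (sb s) ≫ (c.π.app i₀).left = s.π.app i₀ ≫ PicF.XTproj f (D.obj i₀) := hc.fac (sb s) i₀
    calc (s.π.app i₀ ≫ pullback.fst f (D.obj i₀).hom) ≫ f
        = s.π.app i₀ ≫ PicF.XTproj f (D.obj i₀) ≫ (D.obj i₀).hom :=
          (Category.assoc _ _ _).trans (congrArg _ pullback.condition)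
      _ = (hc.lift (sb s) ≫ (c.π.app i₀).left) ≫ (D.obj i₀).hom := by rw [h2]; exact (Category.assoc _ _ _).symm
      _ = hc.lift (sb s) ≫ c.pt.hom := (Category.assoc _ _ _).trans (congrArg _ h1.symm)
  refine ⟨{
    lift := fun s => pullback.lift _ _ (hl s)
    fac := fun s i => ?_
    uniq := fun s m hm => ?_ }⟩
  · apply pullback.hom_ext
    · show (_ ≫ PicF.XTmap f _) ≫ _ = _
      rw [Category.assoc, FlatFunHx.XTmap_fst, pullback.lift_fst, key s i₀ i]
    · show (_ ≫ PicF.XTmap f _) ≫ PicF.XTproj f _ = _ ≫ PicF.XTproj f _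
      rw [Category.assoc, (FlatFunHx.isPullback_XTmap f (c.π.app i)).w, ← Category.assoc]
      exact (congrArg (· ≫ (c.π.app i).left) (pullback.lift_snd _ _ (hl s))).trans (hc.fac (sb s) i)
  · apply pullback.hom_ext
    · rw [pullback.lift_fst, ← hm i₀, Category.assoc]
      show _ = _ ≫ PicF.XTmap f _ ≫ _
      rw [FlatFunHx.XTmap_fst]
    · rw [pullback.lift_snd]
      refine hc.uniq (sb s) _ fun i => ?_
      show (m ≫ PicF.XTproj f c.pt) ≫ (c.π.app i).left = s.π.app i ≫ PicF.XTproj f (D.obj i)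
      rw [← hm i, Category.assoc, Category.assoc]
      exact congrArg _ (FlatFunHx.isPullback_XTmap f (c.π.app i)).w.symm

end Functor

variable {X S : Scheme.{u}} (f : X ⟶ S) [Smooth f] [GeometricallyIrreducible f] (F : X.Modules) [Coh.IsQCoh F]

/-- `H_p` is limit preserving. -/
theorem isLimitPreserving_freeAt (hF : CohB1.IsFP F) (p : ℕ) :
    AlgSp.IsLimitPreserving
      (FlatFun.genPSp S (fun T => FlatFun.FreeAtGenericPts (PicF.XTproj f T) (FGA.ET f F T) p)) := by
  classical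
  have hFT := QCoh.isFT_of_isFP hF
  refine FlatLimHx.isLimitPreserving_genPSp _ (fun T' T g h => freeAt_of_hom f F hFT p g h)
    fun I _ _ D c hc hD hT h => ?_
  have hfp : ∀ T : Over S, CohB1.IsFP (FGA.ET f F T) := fun T => isFP_pullback _ hF
  haveI : ∀ i, IsAffine ((D ⋙ Over.forget S).obj i) := hD
  haveI : ∀ {i j} (m : i ⟶ j), IsAffineHom ((XTfunctor f D).map m) := fun {i j} m => by
    haveI := hD i
    haveI := hD j
    exact MorphismProperty.of_isPullback (FlatFunHx.isPullback_XTmap f (D.map m)).flip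
      (isAffineHom_of_isAffine (D.map m).left)
  obtain ⟨hXc⟩ := isLimit_XTcone f D hc
  obtain ⟨i₀⟩ := IsCofiltered.nonempty (C := I)
  -- the image of the free locus at a stage
  let good : ∀ i : I, Set (D.obj i).left := fun i =>
    (⇑(PicF.XTproj f (D.obj i))) '' {x | FlatFun.IsFreeOfRankNear (FGA.ET f F (D.obj i)) p x}
  have hgood : ∀ i, IsOpen (good i) := fun i => by
    refine (PicF.XTproj f (D.obj i)).isOpenMap _ (isOpen_iff_forall_mem_open.2 ?_)
    rintro x ⟨U, hxU, e⟩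
    exact ⟨U, fun y hy => ⟨U, hy, e⟩, U.2, hxU⟩
  -- every point of the limit reaches a free locus
  have hpt : ∀ t : c.pt.left, ∃ i, (c.π.app i).left t ∈ good i := by
    intro t
    obtain ⟨x, hxt, hgen⟩ := exists_isGenericPtOfFibre (PicF.XTproj f c.pt) t
    obtain ⟨hfree, hrk⟩ := (freeAt_iff f F hFT p c.pt).1 h x hgen
    let π₀ : c.pt ⟶ D.obj i₀ := c.π.app i₀
    let g := PicF.XTmap f π₀
    let eg : ((Scheme.Modules.pullback g).obj (FGA.ET f F (D.obj i₀))).presheaf.stalk x
        ≃ₗ[(PicF.XT f c.pt).presheaf.stalk x] (FGA.ET f F c.pt).presheaf.stalk x :=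
      ((DerSch.stalkFunctor _ x).mapIso (FlatFunHx.ETIso f F π₀)).toLinearEquiv
    obtain ⟨Ks, hKs, hcrit⟩ := exists_sections_killed g (hfp (D.obj i₀)) x p
      ⟨haveI := hfree; Module.Free.of_equiv eg.symm, eg.finrank_eq.trans hrk⟩
    choose U hU s hs using fun a : Ks => (PicF.XT f (D.obj i₀)).presheaf.exists_germ_eq (x := g x) a.1
    have hst : ∀ a : Ks, _ := fun a => exists_stage_germ_eq_zero (XTfunctor f D) (XTcone f D c) hXc x (hU a) (s a) (by
      have := hKs a.1 a.2
      rw [← hs a, Scheme.Hom.germ_stalkMap_apply] at this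
      exact this)
    choose j m hj using hst
    obtain ⟨k, hk0, hk⟩ := exists_lower i₀ j m Finset.univ
    refine ⟨k, PicF.XTmap f (c.π.app k) x, ?_, ?_⟩
    · have e : (PicF.XTmap f (D.map hk0)) (PicF.XTmap f (c.π.app k) x) = g x := by
        rw [← Scheme.Hom.comp_apply]
        exact congrArg (fun φ : (XTcone f D c).pt ⟶ (XTfunctor f D).obj i₀ => φ x) ((XTcone f D c).w hk0)
      obtain ⟨h1, h2⟩ := free_of_killed p e Ks hcrit fun a ha => by
        obtain ⟨n, hn⟩ := hk ⟨a, ha⟩ (Finset.mem_univ _)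
        refine ⟨U ⟨a, ha⟩, hU ⟨a, ha⟩, s ⟨a, ha⟩, hs ⟨a, ha⟩, ?_⟩
        have := hj ⟨a, ha⟩ k n
        rw [hn] at this
        exact this _
      let ek : ((Scheme.Modules.pullback (PicF.XTmap f (D.map hk0))).obj (FGA.ET f F (D.obj i₀))).presheaf.stalk
          (PicF.XTmap f (c.π.app k) x) ≃ₗ[(PicF.XT f (D.obj k)).presheaf.stalk (PicF.XTmap f (c.π.app k) x)]
            (FGA.ET f F (D.obj k)).presheaf.stalk (PicF.XTmap f (c.π.app k) x) :=
        ((DerSch.stalkFunctor _ _).mapIso (FlatFunHx.ETIso f F (D.map hk0))).toLinearEquiv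
      haveI := h1
      haveI : Module.Free _ ((FGA.ET f F (D.obj k)).presheaf.stalk (PicF.XTmap f (c.π.app k) x)) :=
        Module.Free.of_equiv ek
      obtain ⟨V, n', hV, ⟨e'⟩⟩ := QCoh.exists_free_nhd_of_free_stalk (hfp (D.obj k)) (PicF.XTmap f (c.π.app k) x)
      obtain rfl : n' = p := by
        rw [← (free_stalk_of_isFreeOfRankNear (QCoh.isQCoh_of_isFP (hfp _)) ⟨V, hV, ⟨e'⟩⟩).2, ← h2]
        exact ek.finrank_eq.symm
      exact ⟨V, hV, ⟨e'⟩⟩
    · rw [← Scheme.Hom.comp_apply, (FlatFunHx.isPullback_XTmap f (c.π.app k)).w, Scheme.Hom.comp_apply]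
      exact congrArg _ hxt
  choose i hi using hpt
  haveI : CompactSpace c.pt.left := inferInstance
  obtain ⟨Fs, hFs⟩ := (isCompact_univ (X := c.pt.left)).elim_finite_subcover
    (fun t : c.pt.left => {τ : c.pt.left | (c.π.app (i t)).left τ ∈ good (i t)})
    (fun t => (hgood (i t)).preimage (c.π.app (i t)).left.continuous) fun t _ => Set.mem_iUnion.2 ⟨t, hi t⟩
  obtain ⟨k, hk⟩ := IsCofiltered.inf_objs_exists (Fs.image i)
  let ks : ∀ t : Fs, k ⟶ i t.1 := fun t => (hk (Finset.mem_image_of_mem i t.2)).some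
  let W : (D.obj k).left.Opens := ⨆ t : Fs, (D.map (ks t)).left ⁻¹ᵁ ⟨good (i t.1), hgood (i t.1)⟩
  obtain ⟨j, m, hm⟩ := exists_map_eq_top (D ⋙ Over.forget S) _ hc (i := k) W (top_le_iff.1 fun t _ => by
    obtain ⟨t', ht', htt⟩ := Set.mem_iUnion₂.1 (hFs (Set.mem_univ t))
    refine Opens.mem_iSup.2 ⟨⟨t', ht'⟩, ?_⟩
    show (D.map (ks ⟨t', ht'⟩)).left ((c.π.app k).left t) ∈ good (i t')
    rw [← Scheme.Hom.comp_apply, ← Over.comp_left, c.w]
    exact htt)
  refine ⟨j, (freeAt_iff f F hFT p (D.obj j)).2 fun x hx => ?_⟩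
  obtain ⟨⟨t, ht⟩, hmem⟩ := Opens.mem_iSup.1 (show (D.map m).left (PicF.XTproj f (D.obj j) x) ∈ W from
    (hm.symm ▸ trivial : PicF.XTproj f (D.obj j) x ∈ ((D ⋙ Over.forget S).map m) ⁻¹ᵁ W))
  obtain ⟨y, ⟨V, hyV, e'⟩, hy⟩ := hmem
  let n := m ≫ ks ⟨t, ht⟩
  have hproj : PicF.XTproj f (D.obj (i t)) (PicF.XTmap f (D.map n) x) = PicF.XTproj f (D.obj (i t)) y := by
    rw [← Scheme.Hom.comp_apply, (FlatFunHx.isPullback_XTmap f (D.map n)).w, Scheme.Hom.comp_apply, hy]
    show (D.map (m ≫ ks ⟨t, ht⟩)).left _ = _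
    rw [D.map_comp]
    rfl
  have hgen := isGenericPtOfFibre_map f (D.map n) hx
  have hmemV : PicF.XTmap f (D.map n) x ∈ V := (hgen y hproj.symm).mem_open V.2 hyV
  obtain ⟨h1, h2⟩ := free_stalk_of_isFreeOfRankNear (QCoh.isQCoh_of_isFP (hfp _))
    (p := p) (x := PicF.XTmap f (D.map n) x) ⟨V, hmemV, e'⟩
  letI := ((PicF.XTmap f (D.map n)).stalkMap x).hom.toAlgebra
  obtain ⟨e⟩ := exists_stalk_equiv f F (D.map n) x
  haveI := h1
  refine ⟨Module.Free.of_equiv e.symm, ?_⟩
  rw [e.finrank_eq, Module.finrank_baseChange, h2]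

end Groth.Agent.FlatHpHx
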